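import Mathlib
import Cfsg.Agent.Lib.E2.Char
import Cfsg.Agent.Lib.Perm.Ito2p

/-!
The permutation character of a simple transitive group of degree `3p` whose Sylow `p`-normalizer
has order `2p`.
-/

set_option autoImplicit false
set_option linter.unusedSectionVars false
set_option linter.style.haveILetI false

namespace CfsgLib.E2

open Cfsg CfsgLib.Char CfsgLib.Block CfsgLib.DefectOne CfsgLib.DefectOne.B43 CfsgLib.Tuan
  CfsgLib.ChTab CfsgLib.Perm Subgroup Finset MulAction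
open scoped commutatorElement

variable {G : Type*} [Group G] [Fintype G] {p : ℕ} [hp : Fact p.Prime] {x : G} {ζ : ℂ}
  {Ω : Type*} [Fintype Ω] [MulAction G Ω] [IsSimpleGroup G]

theorem not_prime_card (hna : ∃ a b : G, a * b ≠ b * a) : ¬ (Nat.card G).Prime := fun h => by
  obtain ⟨a, b, hab⟩ := hna
  haveI := Fact.mk h
  haveI := isCyclic_of_prime_card (α := G) rfl
  exact hab ((IsCyclic.isMulCommutative (α := G)).is_comm.comm a b)

theorem perfect (hna : ∃ a b : G, a * b ≠ b * a) : commutator G = ⊤ := by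
  obtain ⟨a, b, hab⟩ := hna
  refine (Normal.eq_bot_or_eq_top inferInstance).resolve_left fun h => hab ?_
  have : ⁅a, b⁆ ∈ commutator G := commutator_mem_commutator (mem_top a) (mem_top b)
  rwa [h, mem_bot, commutatorElement_eq_one_iff_mul_comm] at this

theorem exists_sc (hna : ∃ a b : G, a * b ≠ b * a) [IsPretransitive G Ω]
    (hΩ : Nat.card Ω = 3 * p) (P : Sylow p G)
    (hN : Nat.card (normalizer ((P : Subgroup G) : Set G)) = 2 * p) (hp2 : 2 < p) :
    ∃ x : G, SC p x ∧ ee x = 2 ∧ ∀ g : G, p ∣ orderOf g → ∀ a : Ω, g • a ≠ a := by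
  obtain ⟨a₀⟩ : Nonempty Ω := (Nat.card_pos_iff.1 (by omega)).1
  have hcard : ∀ a : Ω, Nat.card (stabilizer G a) * (3 * p) = Nat.card G := fun a => by
    rw [← hΩ, ← index_stabilizer_of_transitive G a, card_mul_index]
  have hP : Nat.card (P : Subgroup G) = p := by
    obtain ⟨k, hk⟩ := IsPGroup.iff_card.1 P.isPGroup'
    have h1 : p ^ k ∣ 2 * p := hk ▸ hN ▸ card_dvd_of_le le_normalizer
    have h2 : p ∣ p ^ k := hk ▸ P.dvd_card_of_dvd_card
      (hcard a₀ ▸ Dvd.dvd.mul_left (dvd_mul_left p 3) _)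
    rcases k with _ | _ | k
    · simp [hp.out.ne_one] at h2
    · simpa using hk
    · rw [pow_succ, Nat.mul_dvd_mul_iff_right hp.out.pos] at h1
      exact absurd (Nat.le_of_dvd two_pos ((dvd_pow_self p k.succ_ne_zero).trans h1)) (by omega)
  obtain ⟨x, hs, hPx⟩ := syl_of_sylow P hP
  have hNN : Nat.card (NN x) = 2 * p := by rw [← hN, hPx]
  have hst : ∀ a : Ω, ¬ p ∣ Nat.card (stabilizer G a) := fun a h => hs.nsq (by
    rw [← hcard a, sq]
    exact mul_dvd_mul h (dvd_mul_left p 3))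
  have he1 : ee x ≠ 1 := ee_ne_one_of_perfect hs (perfect hna)
  have h1 := card_NN x
  obtain ⟨m, hm⟩ : p ∣ Nat.card (CC x) := hs.card_zpowers ▸ card_dvd_of_le (zpowers_le_CC x)
  have h2 : m * ee x = 2 := Nat.eq_of_mul_eq_mul_left hp.out.pos (by
    rw [← mul_assoc, ← hm, ← h1, hNN, mul_comm])
  have h3 : ee x = 2 := ((Nat.dvd_prime Nat.prime_two).1 (Dvd.intro_left m h2)).resolve_left he1
  have h4 : m = 1 := by rw [h3] at h2; omega
  have hsc : SC p x := ⟨hp.out, hs.ord, (eq_of_le_of_card_ge (zpowers_le_CC x)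
    (by rw [hm, h4, mul_one, hs.card_zpowers])).symm⟩
  refine ⟨x, hsc, h3, fun g hg a ha => hst a (hg.trans ?_)⟩
  exact orderOf_dvd_natCard (⟨g, ha⟩ : stabilizer G a) |> (orderOf_mk g _ ▸ ·)

/-- The hypotheses on the action. -/
structure Act (G : Type*) [Group G] (p : ℕ) (Ω : Type*) [MulAction G Ω] : Prop where
  na : ∃ a b : G, a * b ≠ b * a
  tr : IsPretransitive G Ω
  card : Nat.card Ω = 3 * p
  five : 5 ≤ p
  fpf : ∀ g : G, p ∣ orderOf g → ∀ a : Ω, g • a ≠ a

theorem Act.fix_zero (A : Act G p Ω) {g : G} (hg : p ∣ orderOf g) :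
    Nat.card (fixedBy Ω g) = 0 := by
  haveI : IsEmpty (fixedBy Ω g) := ⟨fun a => A.fpf g hg a a.2⟩
  exact Nat.card_of_isEmpty

theorem Act.card_G (A : Act G p Ω) (a : Ω) : Nat.card (stabilizer G a) * (3 * p) = Nat.card G := by
  haveI := A.tr
  rw [← A.card, ← index_stabilizer_of_transitive G a, card_mul_index]

namespace Dat

variable {D : PrinData p x ζ} {χ : IrrCharacter G} (H : Dat D χ) (A : Act G p Ω)
include H

theorem exists_invol : ∃ s : G, orderOf s = 2 := by
  obtain ⟨t, -, ht⟩ := PSL2Rec.exists_mem_orderOf_eq_prime (NN x) Nat.prime_two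
    (by rw [H.sc.card_NN, H.two]; exact dvd_mul_left 2 p)
  exact ⟨t, ht⟩

include A

theorem fix_invol {s : G} (hs : orderOf s = 2) :
    (p % 4 = 1 ∧ Nat.card (fixedBy Ω s) = 3) ∨ (p % 4 = 3 ∧ Nat.card (fixedBy Ω s) = 1) := by
  have hx := H.sc.syl
  obtain ⟨a, h1, h2⟩ := (H.invol A.na hs).2
  have h3 := PSL2Rec.simple_involution_moved (not_prime_card A.na) Ω
    (x := s) (by rw [← hs, pow_orderOf_eq_one])
  have h4 := PSL2Rec.card_fixedBy_le_card_orbits (X := Ω) hx.card_zpowers (x := a)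
    (SmallSimple.mem_normalizer_zpowers ⟨-1, by simp [h2]⟩) fun e => by
      rw [← e x (mem_zpowers x), mul_inv_cancel_right, eq_inv_iff_mul_eq_one, ← pow_two] at h2
      have := Nat.le_of_dvd two_pos (hx.ord ▸ orderOf_dvd_of_pow_eq_one h2)
      have := A.five
      omega
  have h5 := PSL2Rec.card_orbits_mul_of_const (H := zpowers x) (X := Ω) (f := 0) fun u hu =>
    A.fix_zero (hx.orderOf_of_mem u.2 fun e => hu (Subtype.ext e)).symm.dvd
  rw [hx.card_zpowers, A.card, mul_zero, add_zero] at h5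
  rw [Nat.eq_of_mul_eq_mul_right hp.out.pos h5] at h4
  obtain ⟨c, rfl⟩ := isConj_iff.1 h1
  have h6 := PSL2Rec.card_fixedBy_conj (X := Ω) s c⁻¹
  rw [inv_inv] at h6
  rw [h6] at h4
  rw [A.card, Nat.ModEq] at h3
  have := hp.out.eq_two_or_odd
  have := A.five
  omega

theorem dec : D.δ χ = -1 ∧ (dg χ + 1 = p ∨
    (dg χ + 1 = 2 * p ∧ ∃ ψ : IrrCharacter G, dg ψ = p ∧
      ∀ g, permChar G Ω g = 1 + (χ : G → ℂ) g + (ψ : G → ℂ) g) ∨
    (dg χ + 1 = 3 * p ∧ ∀ g, permChar G Ω g = 1 + (χ : G → ℂ) g)) := by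
  classical
  haveI := A.tr
  have h5 := A.five
  haveI : Nonempty Ω := (Nat.card_pos_iff.1 (by rw [A.card]; omega)).1
  obtain ⟨n, hn, hπ⟩ := exists_char_eq_sum_nat (isCharacter_perm (G := G) Ω)
  have h1 : n (irrOne G) = 1 := by
    have := hn (irrOne G)
    rw [irrOne_coe, classInner_permChar_one_of_transitive] at this
    exact_mod_cast this.symm
  have hY : ∀ θ ∈ Ys D, (n θ : ℤ) = n χ + D.δ χ := fun θ hθ => by
    have := H.inner_rel (Θ := permChar G Ω) (fun g hg => by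
      rw [permChar, A.fix_zero hg, Nat.cast_zero]) hθ
    rw [hn, hn, hn, h1, Nat.cast_one, mul_one] at this
    exact_mod_cast this
  set O := (D.X ∪ Ys D)ᶜ with hO
  have hval : ∀ g, permChar G Ω g = 1 + n χ * (χ : G → ℂ) g +
      ((n χ : ℂ) + D.δ χ) * ∑ θ ∈ Ys D, (θ : G → ℂ) g + ∑ φ ∈ O, n φ * (φ : G → ℂ) g := fun g => by
    have := congrFun hπ g
    simp only [Finset.sum_apply, Pi.smul_apply, smul_eq_mul] at this
    rw [H.sum_split, h1, irrOne_apply, Nat.cast_one, one_mul] at this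
    rw [mul_sum, sum_congr rfl (g := fun θ => n θ * (θ : G → ℂ) g) fun θ hθ => by
      rw [show (n θ : ℂ) = n χ + D.δ χ by exact_mod_cast hY θ hθ]]
    exact this
  have hpO : ∀ φ ∈ O, p ∣ dg φ := fun φ hφ => by
    rw [hO, mem_compl, mem_union, not_or] at hφ
    exact other_deg D H.sc hφ.1 hφ.2
  obtain ⟨R, hR⟩ : ∃ R, R = ∑ φ ∈ O, n φ * dg φ := ⟨_, rfl⟩
  have hdeg : (3 * p : ℤ) = 1 + n χ * dg χ +
      (n χ + D.δ χ) * ((Ys D).card * (dg χ + D.δ χ)) + R := by
    have h2 := hval 1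
    rw [sum_congr (s₁ := Ys D) rfl (g := fun _ => (dg χ : ℂ) + D.δ χ) fun θ hθ => by
      rw [← dg_cast]; exact_mod_cast H.dg_Y hθ, permChar_one, ← Nat.card_eq_fintype_card,
      A.card] at h2
    simp only [← dg_cast, sum_const, nsmul_eq_mul] at h2
    rw [hR]
    exact_mod_cast h2
  have hzero : R = 0 → ∀ g, ∑ φ ∈ O, n φ * (φ : G → ℂ) g = 0 := fun e g =>
    sum_eq_zero fun φ hφ => by
      rw [((mul_eq_zero.1 (sum_eq_zero_iff.1 (hR.symm.trans e) φ hφ)).resolve_right
        (dg_pos φ).ne'), Nat.cast_zero, zero_mul]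
  have ht := H.card_Y
  have hd := one_lt_dg A.na H.ne
  obtain ⟨u, hu⟩ := H.deg_mod
  rcases H.sign with e | e
  · exfalso
    rw [e] at hdeg hu hval
    have h2 : 0 < u := by
      by_contra h2
      nlinarith
    have h3 : (p : ℤ) + 1 ≤ dg χ := by nlinarith
    have h4 : (0 : ℤ) ≤ n χ * (dg χ + (Ys D).card * (dg χ + 1)) := by positivity
    have h6 : (Ys D).card = 2 := by
      by_contra h7
      have : (3 : ℤ) ≤ (Ys D).card := by omega
      nlinarith
    obtain rfl : p = 5 := by omega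
    rw [h6] at hdeg h4
    push_cast at hdeg h3 h4
    have h7 : dg χ = 6 := by nlinarith
    rw [h7] at hdeg
    obtain ⟨s, hs⟩ := H.exists_invol
    have hr := ratl_of_sq (show s * s = 1 by rw [← pow_two, ← hs, pow_orderOf_eq_one])
    have h8 := hval s
    rw [hzero (by omega), show n χ = 0 by omega, sum_congr (s₁ := Ys D) rfl
      (g := fun _ => (χ : G → ℂ) s + D.δ χ) fun θ hθ => H.val_Y hθ (by rw [hs]; decide),
      sum_const, h6, e, ← cv_cast hr, permChar,
      ((H.fix_invol A hs).resolve_right (by omega)).2] at h8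
    have h9 : (3 : ℤ) = 1 + 2 * (cv s χ + 1) := by
      apply Int.cast_injective (α := ℂ)
      push_cast at h8 ⊢
      rw [h8]; ring
    have := cv_mod_four A.na (show s * s = 1 by rw [← pow_two, ← hs, pow_orderOf_eq_one]) χ
    omega
  refine ⟨e, ?_⟩
  rw [e] at hdeg hu hval hY
  obtain ⟨θ, hθ⟩ : (Ys D).Nonempty := card_pos.1 (by omega)
  have h2 := hY θ hθ
  have h3 : (0 : ℤ) ≤ (n χ + -1) * ((Ys D).card * (dg χ + -1)) :=
    mul_nonneg (by omega) (mul_nonneg (by omega) (by omega))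
  have h4 : 0 < u := by
    by_contra h4
    nlinarith
  by_cases h6 : u = 1
  · left; rw [h6] at hu; omega
  right
  have h7 : (2 * p : ℤ) ≤ dg χ + 1 := by nlinarith [show 2 ≤ u by omega]
  have h8 : n χ = 1 := by
    by_contra h9
    have : (2 : ℤ) ≤ n χ := by omega
    nlinarith
  simp only [h8, Nat.cast_one, Int.cast_neg, Int.cast_one, add_neg_cancel, zero_mul, add_zero,
    one_mul] at hdeg hval
  have h9 : u ≤ 3 := by
    by_contra h9
    nlinarith [show 4 ≤ u by omega]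
  obtain rfl | rfl : u = 2 ∨ u = 3 := by omega
  · refine Or.inl ⟨by omega, ?_⟩
    have h10 : R = p := by omega
    obtain ⟨ψ, hψ, h11⟩ := exists_ne_zero_of_sum_ne_zero (hR ▸ (by omega : R ≠ 0))
    rw [← add_sum_erase _ _ hψ] at hR
    have h13 : p ≤ dg ψ := Nat.le_of_dvd (dg_pos ψ) (hpO ψ hψ)
    have h14 : n ψ = 1 := by
      by_contra h15
      have := Nat.mul_le_mul (show 2 ≤ n ψ by have := left_ne_zero_of_mul h11; omega) h13
      omega
    rw [h14, one_mul] at hR
    refine ⟨ψ, by omega, fun g => ?_⟩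
    rw [hval, ← add_sum_erase _ _ hψ, h14, sum_eq_zero fun φ hφ => by
      rw [((mul_eq_zero.1 (sum_eq_zero_iff.1 (by omega : ∑ φ ∈ O.erase ψ, n φ * dg φ = 0)
        φ hφ)).resolve_right (dg_pos φ).ne'), Nat.cast_zero, zero_mul]]
    simp
  · exact Or.inr ⟨by omega, fun g => by rw [hval, hzero (by omega), add_zero]⟩

end Dat

end CfsgLib.E2
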