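import Mathlib
import Cfsg.Agent.Lib.E2.Dec
import Cfsg.Agent.Lib.ABG.AlphaG
import Cfsg.Agent.Lib.TwoGrp.QDFus
import Cfsg.Agent.Lib.DefectOne.B43_Main

/-!
Degree `3p`, rank three: the Sylow 2-subgroup is not quasi-dihedral.
-/

set_option autoImplicit false
set_option linter.unusedSectionVars false
set_option linter.style.haveILetI false

namespace CfsgLib.E2

open Cfsg CfsgLib.Char CfsgLib.Block CfsgLib.DefectOne CfsgLib.DefectOne.B43 CfsgLib.Tuan
  CfsgLib.ChTab CfsgLib.Perm CfsgLib.TwoGrp CfsgLib.ABG.Alp Subgroup Finset MulAction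
open scoped ComplexConjugate

variable {G : Type*} [Group G] [Fintype G]

theorem no_four {E : G → Prop} [DecidablePred E] {χ ψ : IrrCharacter G} {s a : G} {p : ℕ}
    (hΦ : IsGeneralizedCharacter G fun g => if E g then 4 else 0) (ha : E a) (h1 : ¬ E 1)
    (hs : s * s = 1) (hs' : ¬ E s) (hχ : ∀ g, E g → (χ : G → ℂ) g = 1)
    (hψ : ∀ g, E g → (ψ : G → ℂ) g = -1) (dχ : dg χ + 1 = 2 * p) (dψ : dg ψ = p) (hp : 2 ≤ p)
    (vχ : (χ : G → ℂ) s = 1) (vψ : (ψ : G → ℂ) s = 1) (h0 : ∀ g, E g → pairN s s g = 0) :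
    False := by
  set Φ : G → ℂ := fun g => if E g then 4 else 0 with hΦd
  obtain ⟨m, hm⟩ := exists_classInner_eq_int hΦ (isGenChar_one (G := G))
  have hin : ∀ (f : G → ℂ) (c : ℤ), (∀ g, E g → f g = c) → classInner Φ f = c * m := fun f c h => by
    rw [← hm, classInner_def, classInner_def, mul_left_comm, mul_sum univ _ (c : ℂ)]
    refine congrArg _ (sum_congr rfl fun g _ => ?_)
    by_cases hg : E g
    · rw [h g hg]; simp [mul_comm]
    · simp [Φ, hg]
  have hm0 : 0 < m := by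
    have h2 := card_mul_classInner Φ (fun _ => 1)
    rw [hm] at h2
    simp only [Φ, map_one, mul_one, sum_ite, sum_const, smul_zero, add_zero, nsmul_eq_mul] at h2
    have h3 : (Nat.card G : ℤ) * m = (univ.filter E).card * 4 := by exact_mod_cast h2
    have h4 : 0 < (univ.filter E).card := card_pos.2 ⟨a, mem_filter.2 ⟨mem_univ a, ha⟩⟩
    by_contra h5
    nlinarith [Int.natCast_nonneg (Nat.card G)]
  have n1 : irrOne G ≠ χ := fun e => by rw [← e, dg_one] at dχ; omega
  have n2 : irrOne G ≠ ψ := fun e => by rw [← e, dg_one] at dψ; omega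
  have n3 : χ ≠ ψ := fun e => by rw [e] at dχ; omega
  set B : G → ℂ := (irrOne G : G → ℂ) + χ - ψ with hB
  have hBg : IsGeneralizedCharacter G B := isGenChar_sub (isGenChar_add
    (isGenChar_of_isIrr (irrOne G).2) (isGenChar_of_isIrr χ.2)) (isGenChar_of_isIrr ψ.2)
  have i1 : classInner Φ B = 3 * m := hin B 3 fun g hg => by
    simp only [B, Pi.sub_apply, Pi.add_apply, irrOne_apply, hχ g hg, hψ g hg]; norm_num
  have i2 : classInner Φ Φ = 4 * m := hin Φ 4 fun g hg => by simp [Φ, hg]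
  have i3 : classInner B B = 3 := by
    simp only [B, classInner_sub_left, classInner_add_left, classInner_sub_right,
      classInner_add_right, classInner_irr_irr, n1, n2, n3, n1.symm, n2.symm, n3.symm, if_true,
      if_false]
    norm_num
  have i4 : classInner (m • B - Φ) (m • B - Φ) = (4 * m - 3 * m ^ 2 : ℤ) := by
    simp only [classInner_sub_left, classInner_sub_right, classInner_zsmul_left,
      classInner_zsmul_right, i1, i2, i3, classInner_comm_genChar hBg hΦ]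
    push_cast; ring
  have hη := isGenChar_sub (isGenChar_zsmul m hBg) hΦ
  obtain ⟨k, hk⟩ := exists_classInner_self_eq_nat hη
  have h2 : (k : ℤ) = 4 * m - 3 * m ^ 2 := by exact_mod_cast hk.symm.trans i4
  obtain rfl : m = 1 := by nlinarith [Int.natCast_nonneg k]
  rw [one_smul] at i4 hη
  have dχ' : (χ : G → ℂ) 1 = 2 * p - 1 := by
    rw [← dg_cast, eq_sub_iff_add_eq]; exact_mod_cast dχ
  have dψ' : (ψ : G → ℂ) 1 = p := by rw [← dg_cast, dψ]
  have e1 : (B - Φ) 1 = p := by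
    simp only [B, Φ, Pi.sub_apply, Pi.add_apply, irrOne_apply, dχ', dψ', if_neg h1]; ring
  have e2 : (B - Φ) s = 1 := by
    simp only [B, Φ, Pi.sub_apply, Pi.add_apply, irrOne_apply, vχ, vψ, if_neg hs']; ring
  have hi := isIrr_of_genChar_norm_one hη (by rw [i4]; norm_num) (by rw [e1]; simp)
  have h3 : classInner (fun g => (pairN s s g : ℂ)) Φ = 0 := by
    rw [classInner_def, sum_eq_zero, mul_zero]
    intro g _
    by_cases hg : E g
    · simp [h0 g hg]
    · simp [Φ, hg]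
  have h4 := classInner_pairN s s ⟨_, hi⟩
  change classInner _ (B - Φ) = _ * ((B - Φ) _ * (B - Φ) _ / (B - Φ) _) at h4
  rw [classInner_sub_right, h3, hB, classInner_sub_right, classInner_add_right, classInner_pairN,
    classInner_pairN, classInner_pairN, inv_eq_of_mul_eq_one_right hs, ← hB, e1, e2, vχ, vψ, dχ',
    dψ', irrOne_apply, irrOne_apply] at h4
  have p0 : (p : ℂ) ≠ 0 := Nat.cast_ne_zero.2 (by omega)
  have p1 : (2 * p - 1 : ℂ) ≠ 0 := by
    rw [← dχ', ← dg_cast]; exact Nat.cast_ne_zero.2 (dg_pos χ).ne'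
  have p2 := card_Ce_ne_zero s
  have p3 : (Nat.card G : ℂ) ≠ 0 := natCard_ne_zero
  field_simp at h4
  have h5 : ((p : ℂ) - 1) ^ 2 = 0 := mul_left_cancel₀ p3 (by linear_combination h4 / 2)
  have h6 : (p : ℤ) - 1 = 0 := by exact_mod_cast pow_eq_zero_iff two_ne_zero |>.1 h5
  omega

variable {Ω : Type*} [Fintype Ω] [MulAction G Ω]

theorem fix_conj {a b : G} (h : IsConj a b) :
    Nat.card (fixedBy Ω a) = Nat.card (fixedBy Ω b) := by
  obtain ⟨c, rfl⟩ := isConj_iff.1 h
  have := PSL2Rec.card_fixedBy_conj (X := Ω) a c⁻¹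
  rw [inv_inv] at this
  exact this.symm

theorem fix_two (h3 : ∀ t : G, orderOf t = 2 → Nat.card (fixedBy Ω t) = 3)
    (hΩ : Odd (Nat.card Ω)) {v : G} {k : ℕ} (hv : orderOf v = 2 ^ k) (h1 : v ≠ 1) :
    Nat.card (fixedBy Ω v) = 1 ∨ Nat.card (fixedBy Ω v) = 3 := by
  obtain ⟨t, ⟨j, rfl⟩, ht⟩ := PSL2Rec.exists_mem_orderOf_eq_prime (zpowers v) Nat.prime_two (by
    rw [Nat.card_zpowers, hv]
    exact dvd_pow_self 2 fun e => h1 (by rwa [e, pow_zero, orderOf_eq_one_iff] at hv))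
  have h4 : Nat.card (fixedBy Ω v) ≤ Nat.card (fixedBy Ω (v ^ j)) :=
    Set.ncard_le_ncard (fixedBy_subset_fixedBy_zpow Ω v j)
  have h5 := PSL2Rec.card_fixedBy_modEq (X := Ω) (p := 2) (k := k) (x := v)
    (by rw [← hv, pow_orderOf_eq_one])
  rw [h3 _ ht] at h4
  rw [Nat.ModEq, Nat.odd_iff.1 hΩ] at h5
  omega

/-- Four times the indicator of the elements whose 2-part fixes one point. -/
theorem isGenChar_four (h3 : ∀ t : G, orderOf t = 2 → Nat.card (fixedBy Ω t) = 3)
    (hΩ : Odd (Nat.card Ω)) (h1 : 3 ≤ Nat.card Ω) (S : Sylow 2 G)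
    (hS : Nat.card S ∣ 2 * (Nat.card Ω - 3)) :
    IsGeneralizedCharacter G fun g => if Nat.card (fixedBy Ω (rp 2 g)) = 1 then 4 else 0 := by
  refine isGenChar_rp S (Φ := fun v => if Nat.card (fixedBy Ω v) = 1 then 4 else 0)
    (fun g c => by simp only [← fix_conj (Ω := Ω) (isConj_iff.2 ⟨c, rfl⟩ : IsConj g _)]) ?_
  obtain ⟨c, hc⟩ := hS
  have h := isGenChar_add (isGenChar_sub (isGenChar_zsmul 6 (isGenChar_one (G := S)))
    (isGenChar_zsmul 2 (isGenChar_restrict (S : Subgroup G)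
      (isGenChar_of_isCharacter (isCharacter_perm (G := G) Ω)))))
    (isGenChar_zsmul c (isGenChar_of_isCharacter (isCharacter_regChar (G := S))))
  convert h using 2 with v
  rw [Pi.add_apply, Pi.sub_apply, Pi.smul_apply, Pi.smul_apply, Pi.smul_apply]
  simp only [zsmul_eq_mul, mul_one]
  by_cases hv : v = 1
  · subst hv
    have h2 : (Nat.card S : ℂ) * c = 2 * (Nat.card Ω - 3) := by
      rw [← Nat.cast_ofNat (n := 3), ← Nat.cast_sub h1]; exact_mod_cast hc.symm
    rw [regChar_one, OneMemClass.coe_one, fixedBy_one_eq_univ, Nat.card_congr (Equiv.Set.univ Ω),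
      if_neg (by omega)]
    push_cast
    linear_combination -h2
  · obtain ⟨k, hk⟩ := pElt_of_mem_isPGroup Nat.prime_two S.isPGroup' v.2
    rw [regChar_of_ne_one hv]
    rcases fix_two h3 hΩ hk (fun e => hv (Subtype.ext e)) with e | e <;> rw [e] <;> norm_num

theorem qd_order (h3 : ∀ t : G, orderOf t = 2 → Nat.card (fixedBy Ω t) = 3)
    (hG : ∀ H : Subgroup G, H.index ≠ 2) {S : Sylow 2 G} {k : ℕ} {a y : G}
    (h : IsQD (S : Subgroup G) k a y)
    (hsq : ∀ v ∈ (S : Subgroup G), 3 ≤ Nat.card (fixedBy Ω (v * v))) {v : G}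
    (hv : v ∈ (S : Subgroup G)) (h1 : Nat.card (fixedBy Ω v) = 1) : orderOf v = 8 * k := by
  obtain ⟨i, rfl | rfl⟩ := (h.mem v).1 hv
  · obtain ⟨j, rfl | rfl⟩ := Int.even_or_odd' i
    · have := hsq _ (h.xpow_mem j)
      rw [← zpow_add, ← two_mul] at this
      omega
    · exact (h.change_x j).ord
  · exfalso
    obtain ⟨j, rfl | rfl⟩ := Int.even_or_odd' i
    · have := h3 _ (h.orderOf_even j)
      omega
    · have h4 := hsq _ (h.xpow_mem k)
      rw [← zpow_add, ← two_mul] at h4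
      rcases h.isConj_of_orderOf_four (h.orderOf_odd j) with e | e
      · rw [fix_conj e] at h4; omega
      · rw [fix_conj ((h.isConj_of_index_ne_two hG).2.trans e)] at h4; omega

theorem qd_not_inverted {S : Sylow 2 G} {k : ℕ} {a y : G} (h : IsQD (S : Subgroup G) k a y)
    {v s : G} (hv : orderOf v = 8 * k) (hs : s * s = 1) : s * v * s⁻¹ ≠ v⁻¹ := fun e => by
  obtain ⟨m, hm⟩ := h.pow2
  have p1 : IsPGroup 2 (zpowers v) := isPGroup_zpowers_of_pElt Nat.prime_two
    ⟨m + 3, by rw [hv, hm]; ring⟩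
  have p2 : IsPGroup 2 (zpowers s) := PSL2Rec.isPGroup_zpowers_of_pow (k := 1)
    (by rw [pow_one, pow_two, hs])
  obtain ⟨c, hc⟩ := SylTools.exists_conj_le_sylow (IsPGroup.to_sup_of_normal_right' p2 p1
    (zpowers_le.2 (SmallSimple.mem_normalizer_zpowers ⟨-1, by simp [e]⟩))) S
  have h1 := hc s (mem_sup_left (mem_zpowers s))
  have h2 := hc v (mem_sup_right (mem_zpowers v))
  have h3 : c * s * c⁻¹ * (c * v * c⁻¹) * (c * s * c⁻¹)⁻¹ = (c * v * c⁻¹)⁻¹ := by
    rw [conj_inv (a := v), ← e]; group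
  have h4 : orderOf (c * v * c⁻¹) = 8 * k := ((MulAut.conj c).orderOf_eq v).trans hv
  have hk := h.kpos
  obtain ⟨i, hi | hi⟩ := (h.mem _).1 h2 <;> rw [hi] at h3 h4
  · have h5 : (a ^ i) ^ (4 * k) = 1 := by
      rw [← zpow_natCast, ← zpow_mul, h.eq_one_iff]
      rcases h.conj_xpow h1 i with e' | e' <;> rw [e', ← zpow_neg, h.eq_iff] at h3
      · obtain ⟨j, hj⟩ := h3
        exact ⟨2 * k * j, by push_cast; linear_combination (2 * k : ℤ) * hj⟩
      · obtain ⟨j, hj⟩ := h3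
        exact ⟨j, by push_cast; linear_combination hj⟩
    have := Nat.le_of_dvd (by omega) (orderOf_dvd_of_pow_eq_one h5)
    omega
  · obtain ⟨j, rfl | rfl⟩ := Int.even_or_odd' i
    · rw [h.orderOf_even] at h4; omega
    · rw [h.orderOf_odd] at h4; omega

theorem Dat.not_qd [IsSimpleGroup G] {p : ℕ} [hp : Fact p.Prime] {x : G} {ζ : ℂ}
    {D : PrinData p x ζ} {χ ψ : IrrCharacter G} (H : Dat D χ) (A : Act G p Ω)
    (hδ : D.δ χ = -1) (hd : dg χ + 1 = 2 * p) (hψ : dg ψ = p)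
    (hπ : ∀ g, permChar G Ω g = 1 + (χ : G → ℂ) g + (ψ : G → ℂ) g)
    (h3 : ∀ t : G, orderOf t = 2 → Nat.card (fixedBy Ω t) = 3) (S : Sylow 2 G)
    (hS : Nat.card S ∣ 2 * (p - 1)) (hn : ¬ Nat.card S ∣ Nat.card Ω - 3)
    (hsq : ∀ v ∈ (S : Subgroup G), 3 ≤ Nat.card (fixedBy Ω (v * v))) :
    ¬ IsQuasiDihedral (S : Subgroup G) := fun hq => by
  obtain ⟨k, a, y, h⟩ := exists_isQD hq
  have h5 := A.five
  have hodd : Odd (Nat.card Ω) := by
    rw [A.card]; exact (by decide : Odd 3).mul (hp.out.odd_of_ne_two H.ne_two)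
  have hG : ∀ K : Subgroup G, K.index ≠ 2 := fun K hK => by
    have h1 := PSL2Rec.simple_card_dvd_factorial (H := K) fun e => by simp [e] at hK
    rw [hK] at h1
    have := Nat.le_of_dvd (by decide) (H.sc.syl.dvd_card.trans h1)
    simp at this
    omega
  have hχ : ∀ g, 2 ∣ orderOf g → (χ : G → ℂ) g = 1 := fun g hg => by
    obtain ⟨θ, hθ⟩ : (Ys D).Nonempty := card_pos.1 (by have := H.card_Y; omega)
    have h1 := H.dg_Y hθ
    have h2 := irr_eq_zero_of_not_dvd θ (S : Subgroup G).index_mul_card.symm Nat.prime_two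
      S.not_dvd_index (show _ ∣ dg θ by rwa [show dg θ = 2 * (p - 1) by omega]) hg
    rw [H.val_Y hθ fun e => H.ne_two ((Nat.prime_dvd_prime_iff_eq Nat.prime_two hp.out).1
      (H.sc.orderOf_eq e ▸ hg)).symm, hδ] at h2
    simpa [add_neg_eq_zero] using h2
  have h1 : Nat.card (fixedBy Ω (1 : G)) ≠ 1 := by
    rw [fixedBy_one_eq_univ, Nat.card_congr (Equiv.Set.univ Ω), A.card]; omega
  have hev : ∀ g : G, Nat.card (fixedBy Ω (rp 2 g)) = 1 → 2 ∣ orderOf g := fun g hg => by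
    by_contra e
    rw [rp_eq (isPPart_one e)] at hg
    exact h1 hg
  obtain ⟨v, hv⟩ : ∃ v : S, Nat.card (fixedBy Ω (v : G)) = 1 := by
    by_contra e
    have h2 := PSL2Rec.card_orbits_mul_of_const (H := S) (X := Ω) (f := 3) fun u hu => by
      obtain ⟨j, hj⟩ := pElt_of_mem_isPGroup Nat.prime_two S.isPGroup' u.2
      exact (fix_two h3 hodd hj fun e => hu (Subtype.ext e)).resolve_left fun e' => e ⟨u, e'⟩
    refine hn ((Nat.dvd_add_left (dvd_mul_right (Nat.card S) 3)).1 ?_)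
    have h4 : 0 < Nat.card S := Nat.card_pos
    have h6 := A.card
    rw [show Nat.card Ω - 3 + Nat.card S * 3 = Nat.card Ω + (Nat.card S - 1) * 3 by omega, ← h2]
    exact dvd_mul_left _ _
  have hs := h.orderOf_y
  refine no_four (s := y) (a := v) (isGenChar_four h3 hodd (by rw [A.card]; omega) S
    (hS.trans ⟨3, by rw [A.card]; omega⟩)) ?_ ?_ h.yy ?_ (fun g hg => hχ g (hev g hg))
    (fun g hg => ?_) hd hψ (by omega) (hχ y hs.symm.dvd) ?_ fun g hg => ?_
  · rwa [rp_eq (isPPart_self Nat.prime_two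
      (pElt_of_mem_isPGroup Nat.prime_two S.isPGroup' v.2))]
  · rwa [rp_eq (isPPart_one (by simp))]
  · rw [rp_eq (isPPart_self Nat.prime_two ⟨1, hs⟩), h3 y hs]; decide
  · have h2 := hπ g
    obtain ⟨b, hb⟩ := Set.ncard_eq_one.1 hg
    have h4 : fixedBy Ω g = {b} := by
      refine Set.eq_singleton_iff_unique_mem.2 ⟨?_, fun c hc => ?_⟩
      · have h6 : b ∈ fixedBy Ω (rp 2 g) := hb ▸ rfl
        have h7 : g • b ∈ fixedBy Ω (rp 2 g) := by
          rw [mem_fixedBy, ← mul_smul, ← (isPPart_commute Nat.prime_two (rp_spec g)).eq, mul_smul,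
            h6]
        rwa [hb] at h7
      · obtain ⟨j, hj⟩ := rp_mem (r := 2) g
        have h6 : c ∈ fixedBy Ω (rp 2 g) := hj ▸ fixedBy_subset_fixedBy_zpow Ω g j hc
        rwa [hb] at h6
    rw [permChar, h4, hχ g (hev g hg)] at h2
    simp only [Nat.card_unique, Nat.cast_one] at h2
    linear_combination -h2
  · have h2 := hπ y
    rw [permChar, h3 y hs, hχ y hs.symm.dvd] at h2
    push_cast at h2
    linear_combination -h2
  · refine pairN_eq_zero fun u h6 h7 => qd_not_inverted h ?_ (mul_self_of_isConj h.yy h6)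
      (inverts_of_pair h.yy h.yy h6 h7 (rp_mem (r := 2) g))
    obtain ⟨c, hc⟩ := SylTools.exists_conj_le_sylow (isPGroup_zpowers_of_pElt Nat.prime_two
      (isPPart_pElt (rp_spec (r := 2) g))) S
    rw [← (MulAut.conj c).orderOf_eq]
    exact qd_order h3 hG h hsq (hc _ (mem_zpowers _))
      ((fix_conj (isConj_iff.2 ⟨c, rfl⟩)).symm.trans hg)

end CfsgLib.E2
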