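import Mathlib
import Cfsg.Agent.Lib.E2.QD
import Cfsg.Agent.Lib.E2.Syl
import Cfsg.Agent.Lib.E2.PSL
import Cfsg.Agent.S0996
import Cfsg.Agent.S3224

/-!
Simple transitive groups of degree `3p` whose Sylow `p`-normalizer has order `2p` (Nagai).
-/

set_option autoImplicit false
set_option linter.unusedSectionVars false
set_option linter.style.haveILetI false

namespace CfsgLib.E2

open Cfsg CfsgLib.Char CfsgLib.DefectOne CfsgLib.DefectOne.B43 CfsgLib.Tuan
  CfsgLib.ChTab CfsgLib.Perm CfsgLib.Classical Subgroup MulAction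
open scoped MatrixGroups

variable {G : Type*} [Group G] [Fintype G] {p : ℕ} [hp : Fact p.Prime] {x : G} {ζ : ℂ}
  {Ω : Type*} [Fintype Ω] [MulAction G Ω] [IsSimpleGroup G]

theorem two_part (S : Sylow 2 G) (h : 2 ∣ Nat.card G) : ∃ z : S, orderOf z = 2 ∧ z ∈ center S ∧
    ∃ g c : ℕ, Odd g ∧ Odd c ∧ Nat.card G = Nat.card S * g ∧ cC (z : G) = Nat.card S * c := by
  haveI : Nontrivial S := Finite.one_lt_card_iff_nontrivial.1
    (Nat.le_of_dvd Nat.card_pos (S.dvd_card_of_dvd_card h))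
  obtain ⟨n, hn, hc⟩ := (S.isPGroup'.to_subgroup (center S)).nontrivial_iff_card.mp
    S.isPGroup'.center_nontrivial
  obtain ⟨⟨z, hz⟩, ho⟩ := exists_prime_orderOf_dvd_card' (G := center S) 2
    (hc ▸ dvd_pow_self 2 hn.ne')
  rw [Subgroup.orderOf_mk] at ho
  obtain ⟨c, hc⟩ : Nat.card S ∣ cC (z : G) := card_dvd_of_le fun g hg =>
    mem_centralizer_singleton_iff.mpr (congrArg Subtype.val (mem_center_iff.mp hz ⟨g, hg⟩))
  have hg : Odd (S : Subgroup G).index := Nat.not_even_iff_odd.1 fun e =>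
    S.not_dvd_index (even_iff_two_dvd.1 e)
  refine ⟨z, ho, hz, _, c, hg, hg.of_dvd_nat ?_, (card_mul_index _).symm, hc⟩
  refine Nat.dvd_of_mul_dvd_mul_left (Nat.card_pos (α := S)) ?_
  rw [← hc, card_mul_index]
  exact card_subgroup_dvd_card _

theorem cop (S : Sylow 2 G) {g : ℕ} (hg : Odd g) : (Nat.card S).Coprime g := by
  obtain ⟨k, hk⟩ := IsPGroup.iff_card.1 S.isPGroup'
  exact hk ▸ (Nat.coprime_two_left.2 hg).pow_left k

theorem three_cases (h3 : ∀ t : G, orderOf t = 2 → Nat.card (fixedBy Ω t) = 3) (S : Sylow 2 G)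
    {z : S} (hz : orderOf z = 2) (hc : z ∈ center S) (hn : ¬ Nat.card S ∣ Nat.card Ω - 3) :
    ((∃ n, Nonempty (S ≃* DihedralGroup n)) ∧ 4 ≤ Nat.card S) ∨ Nat.card S = 4 ∨
      (IsQuasiDihedral S ∧ ∀ v ∈ (S : Subgroup G), 3 ≤ Nat.card (fixedBy Ω (v * v))) := by
  obtain ⟨⟨t, ht, h4⟩, T, hT, hT'⟩ := (three_fix S.isPGroup' (Ω := Ω)
    (fun t ht => h3 t ((orderOf_coe t).trans ht)) hz hc).2.resolve_left hn
  rcases Cfsg.Agent.S3224.result S.isPGroup' t ht h4 with h | h | h
  · exact Or.inl ⟨h, h4 ▸ card_le_card_group _⟩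
  · refine Or.inr (Or.inr ⟨h, fun v hv => ?_⟩)
    rw [← h3 z ((orderOf_coe z).trans hz)]
    exact Set.ncard_le_ncard ((hT' _).1 (mul_self_mem_of_index_two hT ⟨v, hv⟩))
  · exact Or.inr (Or.inl h)

theorem Act.nonempty (A : Act G p Ω) : Nontrivial Ω :=
  Finite.one_lt_card_iff_nontrivial.1 (by have := A.five; have := A.card; omega)

theorem Act.ne_top (A : Act G p Ω) (a : Ω) : stabilizer G a ≠ ⊤ := fun e => by
  have h1 := A.card_G a
  have := A.five
  have : 0 < Nat.card G := Nat.card_pos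
  rw [e, card_top] at h1
  nlinarith

theorem Act.three (A : Act G p Ω) : 3 ∣ Nat.card G := by
  haveI := A.nonempty
  obtain ⟨a⟩ : Nonempty Ω := inferInstance
  exact A.card_G a ▸ (dvd_mul_right 3 p).mul_left _

theorem Act.psl (A : Act G p Ω) {F : Type*} [Field F] [Finite F] (e : G ≃* PSL(2, F))
    (h4 : 4 ≤ Nat.card F) (h6 : Nat.card F ≠ 6)
    (h : Nat.card G = p * (Nat.card F * (Nat.card F - 1))) :
    Nat.card F = 9 ∨ (Even (Nat.card F) ∧ ¬ IsPreprimitive G Ω) := by
  haveI := A.nonempty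
  haveI := A.tr
  obtain ⟨a⟩ : Nonempty Ω := inferInstance
  rw [← isCoatom_stabilizer_iff_preprimitive G a, ← (MulEquiv.mapSubgroup e).isCoatom_iff]
  refine psl_sub h4 h6 _ (Nat.eq_of_mul_eq_mul_left hp.out.pos ?_)
  rw [← h, ← A.card_G a, MulEquiv.mapSubgroup_apply, card_map_of_injective e.injective]
  ring

namespace Dat

variable {D : PrinData p x ζ} {χ : IrrCharacter G} (H : Dat D χ) (A : Act G p Ω)
  (hδ : D.δ χ = -1)
include H A hδ

theorem case_one (hd : dg χ + 1 = p) : ¬ IsPreprimitive G Ω ∧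
    ∃ (F : Type) (_ : Field F) (_ : Fintype F) (m : ℕ), Fintype.card F = 2 ^ m ∧ p = 2 ^ m + 1 ∧
      Nonempty (G ≃* PSL(2, F)) := by
  have h5 := A.five
  have hc := cast_of_unique (χ := χ) fun ψ => H.eq_of_dg (by omega)
  have hG := card_eq_of_rational_char H.sc H.two h5 χ (fun g => cv g χ) (fun g => (hc g).symm)
    (by simp only [cv_one]; omega) (fun g hg => hδ ▸ cv_eq (H.val_sing hg))
    (fun g hg => by
      by_contra e
      have := natAbs_lt_of_val A.na H.ne e (hc g).symm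
      omega)
    (by
      rw [← nu_cast, H.nu_eq hδ (by
        have := H.card_Y
        exact ⟨(Ys D).card, by omega⟩), Int.cast_one])
  obtain ⟨t, rfl⟩ : ∃ t, p = t + 2 := ⟨_, (Nat.sub_add_cancel (by omega)).symm⟩
  rw [show t + 2 - 1 = t + 1 from rfl, Nat.add_sub_cancel] at hG
  obtain ⟨m, F, _, _, h1, h2, ⟨e⟩⟩ : ∃ (m : ℕ) (F : Type) (_ : Field F) (_ : Fintype F),
      Fintype.card F = 2 ^ m ∧ t + 2 = 2 ^ m + 1 ∧ Nonempty (G ≃* PSL(2, F)) := by
    rcases Cfsg.Agent.S0996.result (perfect A.na) (t + 2) x H.sc.ord H.sc.cent (by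
      have h1 := H.sc.card_eq
      rw [H.two, hG, mul_assoc, mul_assoc] at h1
      rw [← Nat.eq_of_mul_eq_mul_left hp.out.pos h1]
      nlinarith) with ⟨F, _, _, h1, -, ⟨e⟩⟩ | ⟨m, F, _, _, h1, h2, -, e⟩
    · have h2 := psl2_card_mul (F := F)
      obtain ⟨k, hk⟩ : ∃ k, t + 1 = 2 * k := ⟨(Ys D).card, by have := H.card_Y; omega⟩
      rw [h1, ← Nat.card_congr e.toEquiv, hG, show t + 2 - 1 = t + 1 from rfl,
        show Nat.gcd 2 (t + 1) = 2 by rw [hk]; simp,
        show (t + 2) ^ 2 - 1 = (t + 1) * (t + 3) from Nat.sub_eq_of_eq_add (by ring)] at h2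
      have h3 : 2 * t = t + 3 :=
        Nat.eq_of_mul_eq_mul_left (show 0 < (t + 2) * (t + 1) by positivity) (by linarith)
      obtain rfl : t = 3 := by omega
      let K := GaloisField 2 2
      letI : Fintype K := Fintype.ofFinite K
      have h4 : Fintype.card K = 2 ^ 2 :=
        Nat.card_eq_fintype_card.symm.trans (GaloisField.card 2 2 two_ne_zero)
      have h6 := psl2_card_mul (F := K)
      rw [h4] at h6
      haveI := psl_fin_isSimpleGroup (F := K) 2 le_rfl fun _ => h4.ge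
      obtain ⟨e1⟩ := Cfsg.Agent.S0494.result (G := G) hG
      obtain ⟨e2⟩ := Cfsg.Agent.S0494.result (G := PSL(2, K)) (by simpa using h6)
      exact ⟨2, K, _, _, h4, rfl, ⟨e1.trans e2.symm⟩⟩
    · exact ⟨m, F, _, _, h1, h2, e⟩
  have h3 : Nat.card F = t + 1 := by rw [Nat.card_eq_fintype_card]; omega
  refine ⟨((A.psl e (by omega) (fun h => ?_) (by rw [hG, h3, mul_assoc]; rfl)).resolve_left
    fun h => ?_).2, F, _, _, m, h1, h2, ⟨e⟩⟩
  · have h4 : 3 ∣ 2 ^ m := ⟨2, by omega⟩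
    exact absurd (Nat.prime_three.dvd_of_dvd_pow h4) (by decide)
  · have := H.card_Y
    omega

/-- the degrees of the principal block divide the order -/
theorem deg_dvd {d : ℕ} (hd : dg χ = d + 1) (h : p.Coprime d) : p * ((d + 1) * d) ∣ Nat.card G := by
  obtain ⟨θ, hθ⟩ : (Ys D).Nonempty := Finset.card_pos.1 (by
    have := H.card_Y; have := A.five; omega)
  have h1 := H.dg_Y hθ
  refine Nat.Coprime.mul_dvd_of_dvd_of_dvd (Nat.Coprime.mul_right ?_ h) H.sc.syl.dvd_card
    (Nat.Coprime.mul_dvd_of_dvd_of_dvd (by simp) (hd ▸ dg_dvd χ)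
      ((show dg θ = d by omega) ▸ dg_dvd θ))
  exact hd ▸ hp.out.coprime_iff_not_dvd.2 (not_dvd_of_X D H.mem_X)

theorem gw (S : Sylow 2 G) (h : (∃ n, Nonempty (S ≃* DihedralGroup n)) ∧ 4 ≤ Nat.card S) :
    Nat.card G = 2520 ∨ ∃ (F : Type) (_ : Field F) (_ : Finite F), Nonempty (G ≃* PSL(2, F)) ∧
      Odd (Nat.card F) ∧ 2 * Nat.card G = Nat.card F * (Nat.card F ^ 2 - 1) ∧
      (p = Nat.card F ∨ p * 2 = Nat.card F - 1 ∨ p * 2 = Nat.card F + 1) := by
  obtain ⟨⟨n, ⟨e⟩⟩, h⟩ := h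
  rw [← H.sc.card_CC]
  refine gw_card A.na S e h fun e => ?_
  have := Nat.le_of_dvd two_pos (H.sc.ord ▸ orderOf_dvd_of_pow_eq_one ((pow_two x).trans e))
  have := A.five
  omega

theorem case_two (hd : dg χ + 1 = 2 * p) {ψ : IrrCharacter G} (hψ : dg ψ = p)
    (hπ : ∀ g, permChar G Ω g = 1 + (χ : G → ℂ) g + (ψ : G → ℂ) g) :
    p = 5 ∧ Nat.card G = 360 := by
  have h5 := A.five
  have hs := H.sc.syl
  obtain ⟨S⟩ : Nonempty (Sylow 2 G) := inferInstance
  obtain ⟨s, hs2⟩ := H.exists_invol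
  obtain ⟨z, hz, hc, g, c, hg, hc', hG, hC⟩ := two_part S (hs2 ▸ orderOf_dvd_natCard s)
  have hz' : orderOf (z : G) = 2 := (orderOf_coe z).trans hz
  have hzz : (z : G) * z = 1 := (pow_two _).symm.trans (orderOf_dvd_iff_pow_eq_one.1 hz'.dvd)
  have hv : cv (z : G) χ = 1 := by
    have h1 := hπ z
    rw [← cv_cast (ratl_of_sq hzz), ← cv_cast (ratl_of_sq hzz), permChar] at h1
    have h2 : (Nat.card (fixedBy Ω (z : G)) : ℤ) = 1 + cv (z : G) χ + cv (z : G) ψ := by
      exact_mod_cast h1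
    have h3 := H.bound A.na hz' χ
    have h4 := H.bound A.na hz' ψ
    rw [vv_X D hs H.mem_X, hδ] at h3
    rw [vv_dz hs hψ.symm.dvd, hψ] at h4
    have h6 : -1 ≤ cv (z : G) χ := by
      by_contra e
      have h6 : (dg χ : ℤ) + 1 = 2 * p := by exact_mod_cast hd
      clear * - h3 h5 h6 e
      nlinarith
    have h7 : -1 ≤ cv (z : G) ψ := by
      by_contra e
      clear * - h4 h5 e
      nlinarith
    have h8 := cv_mod_four A.na hzz χ
    have h9 := cv_mod_four A.na hzz ψ
    have := H.fix_invol A hz'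
    omega
  obtain ⟨t, rfl⟩ : ∃ t, p = t + 1 := ⟨_, (Nat.sub_add_cancel (by omega)).symm⟩
  have hd' : dg χ = 2 * t + 1 := by omega
  have ht : Even t := by have := H.card_Y; exact ⟨(Ys D).card, by omega⟩
  have h1 : Nat.card G * (2 * t) = (t + 1) * (2 * t + 1) * cC (z : G) ^ 2 := by
    have h2 := (H.invol A.na hz').1
    rw [hv, hδ, hd'] at h2
    refine Nat.eq_of_mul_eq_mul_left (show 0 < 2 * t by omega) ?_
    zify at h2 ⊢
    linear_combination h2
  have h2 : g * (2 * t) = Nat.card S * ((t + 1) * (2 * t + 1) * c ^ 2) :=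
    Nat.eq_of_mul_eq_mul_left (Nat.card_pos (α := S)) (by rw [← mul_assoc, ← hG, h1, hC]; ring)
  have h3 : Nat.card S ∣ 2 * t := (cop S hg).dvd_of_dvd_mul_left ⟨_, h2⟩
  have h4 := Nat.le_of_dvd Nat.card_pos (H.deg_dvd A hδ hd' ((Nat.coprime_two_right.2
    ht.add_one).mul_right (by simp)))
  have hΩ : Nat.card Ω - 3 = 3 * t := by rw [A.card]; omega
  rcases H.fix_invol A hz' with ⟨e, -⟩ | ⟨e, -⟩
  · have h6 : ∀ t : G, orderOf t = 2 → Nat.card (fixedBy Ω t) = 3 := fun t ht =>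
      ((H.fix_invol A ht).resolve_right (by omega)).2
    have hn : ¬ Nat.card S ∣ Nat.card Ω - 3 := fun h => by
      obtain ⟨w, hw⟩ := (cop S (by decide : Odd 3)).dvd_of_dvd_mul_left (hΩ ▸ h)
      have h7 : 2 * (g * w) = (t + 1) * (2 * t + 1) * c ^ 2 :=
        Nat.eq_of_mul_eq_mul_left (Nat.card_pos (α := S)) (by rw [← h2]; nth_rw 1 [hw]; ring)
      exact Nat.not_even_iff_odd.2 ((ht.add_one.mul (odd_two_mul_add_one t)).mul hc'.pow)
        ⟨_, h7.symm.trans (two_mul _)⟩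
    rcases three_cases h6 S hz hc hn with h | h | h
    · rcases H.gw A hδ S h with h7 | ⟨F, _, _, ⟨e⟩, h7, h8, h9⟩
      · exfalso
        rw [h7] at h1 h4
        have h8 : t < 9 := by
          by_contra h8
          exact absurd ((Nat.mul_le_mul (show 10 ≤ t + 1 by omega) (Nat.mul_le_mul
            (show 19 ≤ 2 * t + 1 by omega) (show 18 ≤ 2 * t by omega))).trans h4) (by decide)
        obtain rfl | rfl : t = 4 ∨ t = 8 := by omega
        · generalize cC (z : G) = C at h1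
          clear * - h1
          have : C < 22 := by nlinarith
          interval_cases C <;> omega
        · exact absurd hp.out (by decide)
      · have h10 := H.deg_dvd A hδ hd' ((Nat.coprime_two_right.2 ht.add_one).mul_right (by simp))
        rcases h9 with h9 | h9 | h9
        · rw [← h9, show (t + 1) ^ 2 - 1 = t * (t + 2) from Nat.sub_eq_of_eq_add (by ring)] at h8
          clear * - h4 h5 h8
          nlinarith [show 0 < (t + 1) * (t * t) from mul_pos (by omega) (mul_pos (by omega) (by omega))]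
        · exfalso
          rw [show Nat.card F = 2 * t + 3 by omega, show (2 * t + 3) ^ 2 - 1 =
            2 * ((t + 1) * (2 * (t + 2))) from Nat.sub_eq_of_eq_add (by ring)] at h8
          obtain ⟨w, hw⟩ := h10
          have h11 : (2 * t + 1) * t * w = (2 * t + 3) * (t + 2) :=
            Nat.eq_of_mul_eq_mul_left (show 0 < 4 * (t + 1) by omega) (by rw [hw] at h8; linarith)
          clear * - h5 h11
          rcases w with _ | _ | w
          · simp at h11
          · nlinarith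
          · nlinarith [Nat.zero_le ((2 * t + 1) * t * w)]
        · have h11 : Nat.card F = 2 * t + 1 := by omega
          rw [h11, show (2 * t + 1) ^ 2 - 1 = 2 * ((t + 1) * (2 * t)) from
            Nat.sub_eq_of_eq_add (by ring)] at h8
          have h12 : Nat.card G = (t + 1) * ((2 * t + 1) * (2 * t)) := by linarith
          rcases A.psl e (by omega) (by omega) (by rw [h12, h11]; rfl) with h13 | h13
          · obtain rfl : t = 4 := by omega
            exact ⟨rfl, h12⟩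
          · exact absurd h13.1 (Nat.not_even_iff_odd.2 h7)
    · exact absurd (h ▸ hΩ ▸ by omega) hn
    · exact absurd h.1 (H.not_qd A hδ hd hψ hπ h6 S h3 hn h.2)
  · exfalso
    have h8 : ¬ 2 ^ 3 ∣ Nat.card G := fun h => by
      have := (((Nat.coprime_two_left.2 hg).pow_left 3).dvd_of_dvd_mul_right (hG ▸ h)).trans h3
      omega
    obtain ⟨n, hn, h | h⟩ := bender_card A.na (fun t ht =>
      ((H.fix_invol A ht).resolve_left (by omega)).2) hz' A.ne_top A.three
    · obtain rfl : n = 2 := by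
        by_contra h9
        exact h8 (h ▸ (pow_dvd_pow 2 (by omega)).mul_right _)
      rw [h] at h4
      exact absurd ((Nat.mul_le_mul (show 5 ≤ t + 1 by omega) (Nat.mul_le_mul
        (show 9 ≤ 2 * t + 1 by omega) (show 8 ≤ 2 * t by omega))).trans h4) (by decide)
    · exact h8 ((pow_dvd_pow_of_dvd (dvd_pow_self 2 (by omega)) 3).trans h.1)

theorem case_three (hd : dg χ + 1 = 3 * p) (hπ : ∀ g, permChar G Ω g = 1 + (χ : G → ℂ) g) :
    False := by
  have h5 := A.five
  have hs := H.sc.syl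
  obtain ⟨S⟩ : Nonempty (Sylow 2 G) := inferInstance
  obtain ⟨s, hs2⟩ := H.exists_invol
  obtain ⟨z, hz, hc, g, c, hg, hc', hG, hC⟩ := two_part S (hs2 ▸ orderOf_dvd_natCard s)
  have hz' : orderOf (z : G) = 2 := (orderOf_coe z).trans hz
  have hzz : (z : G) * z = 1 := (pow_two _).symm.trans (orderOf_dvd_iff_pow_eq_one.1 hz'.dvd)
  have hv : (Nat.card (fixedBy Ω (z : G)) : ℤ) = 1 + cv (z : G) χ := by
    have h1 := hπ z
    rw [← cv_cast (ratl_of_sq hzz), permChar] at h1
    exact_mod_cast h1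
  obtain ⟨t, rfl⟩ : ∃ t, p = t + 1 := ⟨_, (Nat.sub_add_cancel (by omega)).symm⟩
  have hd' : dg χ = 3 * t + 1 + 1 := by omega
  have ht : Even t := by have := H.card_Y; exact ⟨(Ys D).card, by omega⟩
  have h1 := (H.invol A.na hz').1
  rw [hδ, hd'] at h1
  have h4 := Nat.le_of_dvd Nat.card_pos (H.deg_dvd A hδ hd' (hp.out.coprime_iff_not_dvd.2
    fun h => by
      have := Nat.le_of_dvd two_pos ((Nat.dvd_add_right h).1
        (show t + 1 ∣ 3 * t + 1 + 2 from ⟨3, by ring⟩))
      omega))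
  have hΩ : Nat.card Ω - 3 = 3 * t := by rw [A.card]; omega
  have ho : Odd (3 * t + 1) := (ht.mul_left 3).add_one
  rcases H.fix_invol A hz' with ⟨e, e'⟩ | ⟨e, e'⟩
  · have h6 : ∀ t : G, orderOf t = 2 → Nat.card (fixedBy Ω t) = 3 := fun t ht =>
      ((H.fix_invol A ht).resolve_right (by omega)).2
    obtain ⟨r, rfl⟩ : ∃ r, t = 4 * r := ⟨t / 4, by omega⟩
    rw [show cv (z : G) χ = 2 by omega, hG, hC] at h1
    have h2 : 9 * g * r * (8 * r) =
        Nat.card S * ((4 * r + 1) * (6 * r + 1) * (3 * (4 * r) + 1) * c ^ 2) := by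
      refine Nat.eq_of_mul_eq_mul_left (mul_pos two_pos (Nat.card_pos (α := S))) ?_
      zify at h1 ⊢
      linear_combination h1
    have h3 := (three_fix S.isPGroup' (Ω := Ω)
      (fun t ht => h6 t ((orderOf_coe t).trans ht)) hz hc).1
    obtain ⟨w, hw⟩ : Nat.card S ∣ 8 * r := (cop S (by decide : Odd 3)).dvd_of_dvd_mul_left
      (by rwa [hΩ, show 2 * (3 * (4 * r)) = 3 * (8 * r) by ring] at h3)
    have h7 : Odd (9 * g * r * w) := by
      rw [Nat.eq_of_mul_eq_mul_left (Nat.card_pos (α := S))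
        (show Nat.card S * (9 * g * r * w) = _ by rw [← h2, hw]; ring)]
      exact ((ht.add_one.mul ⟨3 * r, by ring⟩).mul ho).mul hc'.pow
    have h8 := Nat.Odd.of_mul_right (Nat.Odd.of_mul_left h7)
    have h9 : Nat.card S = 8 := Nat.dvd_antisymm ((cop S h8).dvd_of_dvd_mul_right ⟨w, hw⟩)
      (((Nat.coprime_two_left.2 (Nat.Odd.of_mul_right h7)).pow_left 3).dvd_of_dvd_mul_right
        ⟨r, hw.symm⟩)
    rcases three_cases h6 S hz hc (by rw [h9, hΩ]; have := Nat.odd_iff.1 h8; omega) with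
      h | h | ⟨⟨n, hn, h, -⟩, -⟩
    · generalize 4 * r = t at *
      rcases H.gw A hδ S h with h7 | ⟨F, _, _, -, -, h8, h9⟩
      · have h10 := H.deg_dvd A hδ hd' (hp.out.coprime_iff_not_dvd.2 fun h => by
          have := Nat.le_of_dvd two_pos ((Nat.dvd_add_right h).1
            (show t + 1 ∣ 3 * t + 1 + 2 from ⟨3, by ring⟩))
          omega)
        rw [h7] at h4 h10
        obtain rfl : t = 4 := by
          by_contra h8
          exact absurd ((Nat.mul_le_mul (show 9 ≤ t + 1 by omega) (Nat.mul_le_mul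
            (show 26 ≤ 3 * t + 1 + 1 by omega) (show 25 ≤ 3 * t + 1 by omega))).trans h4) (by decide)
        norm_num at h10
      · have h10 : Nat.card F ≤ 2 * t + 3 := by omega
        have h11 := Nat.mul_le_mul h10 (Nat.sub_le_sub_right (Nat.pow_le_pow_left h10 2) 1)
        rw [← h8, show (2 * t + 3) ^ 2 - 1 = 2 * ((t + 1) * (2 * (t + 2))) from
          Nat.sub_eq_of_eq_add (by ring)] at h11
        obtain ⟨t, rfl⟩ : ∃ k, t = k + 4 := ⟨_, (Nat.sub_add_cancel (by omega)).symm⟩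
        clear * - h4 h11
        nlinarith [Nat.zero_le (t * t), Nat.zero_le (t * t * t)]
    · omega
    · have := Nat.pow_le_pow_right two_pos (show 4 ≤ n + 1 by omega)
      omega
  · rw [show cv (z : G) χ = 0 by omega] at h1
    have h2 : Nat.card G * (3 * t + 2) = (t + 1) * (3 * t + 1) * cC (z : G) ^ 2 := by
      refine Nat.eq_of_mul_eq_mul_left (show 0 < 3 * t + 2 by omega) ?_
      zify at h1 ⊢
      linear_combination h1
    have h3 : Nat.card S ∣ 3 * t + 2 := (cop S hg).dvd_of_dvd_mul_left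
      ⟨(t + 1) * (3 * t + 1) * c ^ 2, Nat.eq_of_mul_eq_mul_left (Nat.card_pos (α := S))
        (by rw [← mul_assoc, ← hG, h2, hC]; ring)⟩
    have h6 : ∀ n, 2 ^ n ∣ Nat.card G → 2 ^ n ∣ 3 * t + 2 := fun n h =>
      (((Nat.coprime_two_left.2 hg).pow_left n).dvd_of_dvd_mul_right (hG ▸ h)).trans h3
    obtain ⟨n, hn, h | h⟩ := bender_card A.na (fun t ht =>
      ((H.fix_invol A ht).resolve_left (by omega)).2) hz' A.ne_top A.three
    · obtain ⟨k, hk⟩ := h6 n (h ▸ dvd_mul_right _ _)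
      have h7 := Nat.pow_le_pow_right two_pos hn
      generalize 2 ^ n = q at *
      obtain ⟨q, rfl⟩ : ∃ k, q = k + 1 := ⟨_, (Nat.sub_add_cancel (by omega)).symm⟩
      rw [show (q + 1) ^ 2 - 1 = q * (q + 2) from Nat.sub_eq_of_eq_add (by ring)] at h
      rcases k with _ | _ | k
      · omega
      · obtain rfl : q = 3 * t + 1 := by omega
        have h8 : 3 * (3 * t + 2) ^ 2 = cC (z : G) ^ 2 :=
          Nat.eq_of_mul_eq_mul_left (show 0 < (t + 1) * (3 * t + 1) by positivity)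
            (by rw [← h2, h]; ring)
        obtain ⟨u, hu⟩ := Nat.prime_three.dvd_of_dvd_pow (Dvd.intro _ h8)
        have h9 : (3 * t + 2) ^ 2 = 3 * u ^ 2 := by rw [hu] at h8; linarith
        have := Nat.prime_three.dvd_of_dvd_pow (Dvd.intro _ h9.symm)
        omega
      · have h8 : 2 * q ≤ 3 * t := by clear * - hk; nlinarith [Nat.zero_le (q * k)]
        rw [h] at h4
        have h9 : 2 * q * (2 * q + 2) * (2 * q + 4) ≤ 3 * t * (3 * t + 2) * (3 * t + 4) :=
          Nat.mul_le_mul (Nat.mul_le_mul h8 (by omega)) (by omega)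
        have h10 : 0 < t := by omega
        clear * - h4 h9 h10
        nlinarith [show 0 < t * t * t by positivity, show 0 < t * t by positivity]
    · have h7 := Nat.le_of_dvd (by omega) (h6 (n * 3) (pow_mul 2 n 3 ▸ h.1))
      have h8 := h.2 _ hp.out hs.dvd_card
      have h9 := Nat.pow_le_pow_right two_pos hn
      rw [pow_mul] at h7
      generalize 2 ^ n = q at h7 h8 h9
      have h10 := Nat.mul_le_mul_right (q ^ 2) h9
      rw [show q * q ^ 2 = q ^ 3 by ring] at h10
      omega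

end Dat

theorem nagai (hna : ∃ a b : G, a * b ≠ b * a) (hp3 : 3 < p) (htr : IsPretransitive G Ω)
    (hΩ : Nat.card Ω = 3 * p) (P : Sylow p G)
    (hN : Nat.card (normalizer ((P : Subgroup G) : Set G)) = 2 * p) :
    (IsPreprimitive G Ω ∧ p = 5 ∧ Nat.card G = 360) ∨ (¬ IsPreprimitive G Ω ∧
      ∃ (F : Type) (_ : Field F) (_ : Fintype F) (m : ℕ), Fintype.card F = 2 ^ m ∧ p = 2 ^ m + 1 ∧
        Nonempty (G ≃* PSL(2, F))) := by
  obtain ⟨x, h, he, hfp⟩ := exists_sc hna hΩ P hN (by omega)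
  have A : Act G p Ω :=
    ⟨hna, htr, hΩ, hp.out.five_le_of_ne_two_of_ne_three (by omega) (by omega), hfp⟩
  obtain ⟨ζ, D, χ, H⟩ := exists_dat h he
  obtain ⟨hδ, h1 | ⟨h1, ψ, h2, h3⟩ | ⟨h1, h2⟩⟩ := H.dec A
  · exact Or.inr (H.case_one A hδ h1)
  · obtain ⟨rfl, h4⟩ := H.case_two A hδ h1 h2 h3
    refine Or.inl ⟨?_, rfl, h4⟩
    haveI := A.nonempty
    obtain ⟨a⟩ : Nonempty Ω := inferInstance
    refine (isCoatom_stabilizer_iff_preprimitive G a).1 ⟨A.ne_top a, fun K hK => ?_⟩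
    by_contra h5
    have h6 := PSL2Rec.simple_card_dvd_factorial h5
    have h7 := index_dvd_of_le hK.le
    have h8 := index_strictAnti hK
    rw [index_stabilizer_of_transitive, hΩ] at h7 h8
    rw [h4] at h6
    generalize K.index = n at *
    interval_cases n <;> simp_all [Nat.factorial]
  · exact (H.case_three A hδ h1 h2).elim

end CfsgLib.E2
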